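import Mathlib.RingTheory.Etale.QuasiFinite
import Mathlib.RingTheory.Flat.Basic
import Mathlib.RingTheory.Smooth.Flat
import Mathlib.RingTheory.Ideal.GoingUp

/-!
# Separating classes of an equivalence relation on an integral algebra with finite fibres
-/

set_option autoImplicit false
set_option backward.isDefEq.respectTransparency.types false
set_option backward.isDefEq.respectTransparency false
set_option maxHeartbeats 800000

noncomputable section

open TensorProduct

universe u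

namespace Groth.Agent.IntQuot25

variable {A : Type u} [CommRing A] (s : Ideal A) [s.IsPrime]
  {A' : Type u} [CommRing A'] [Algebra A A'] (σ : A' →ₐ[A] s.ResidueField)

theorem residueField_ext {F : Type u} [CommRing F] {f g : s.ResidueField →+* F}
    (h : ∀ a, f (algebraMap A _ a) = g (algebraMap A _ a)) : f = g :=
  IsLocalization.ringHom_ext (nonZeroDivisors (A ⧸ s)) (Ideal.Quotient.ringHom_ext (RingHom.ext h))

variable {M : Type u} [CommRing M] [Algebra A M]

/-- The point of `A' ⊗ M` over `σ` and the prime `x`. -/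
def pt (x : Ideal M) [x.IsPrime] (hx : x.comap (algebraMap A M) = s) : A' ⊗[A] M →ₐ[A] x.ResidueField :=
  Algebra.TensorProduct.lift
    (((Ideal.ResidueField.mapₐ s x (Algebra.ofId A M) hx.symm)).comp σ)
    (IsScalarTower.toAlgHom A M x.ResidueField) fun _ _ => .all _ _

theorem pt_tmul (x : Ideal M) [x.IsPrime] (hx : x.comap (algebraMap A M) = s) (a : A') (m : M) :
    pt s σ x hx (a ⊗ₜ m) =
      Ideal.ResidueField.mapₐ s x (Algebra.ofId A M) hx.symm (σ a) * algebraMap M x.ResidueField m :=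
  Algebra.TensorProduct.lift_tmul _ _ _ _ _

theorem pt_includeRight (x : Ideal M) [x.IsPrime] (hx : x.comap (algebraMap A M) = s) (m : M) :
    pt s σ x hx (1 ⊗ₜ m) = algebraMap M x.ResidueField m := by
  rw [pt_tmul, map_one, map_one, one_mul]

/-- A point over the prime of `A'` cut out by `σ` and over `x` is `pt`. -/
theorem exists_factor (P : Ideal A') [P.IsPrime] (μ : P.ResidueField ≃ₐ[A] s.ResidueField)
    (hσ : ∀ a, σ a = μ (algebraMap A' P.ResidueField a)) {F : Type u} [Field F] [Algebra A F]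
    (ψ : A' ⊗[A] M →ₐ[A] F) (x : Ideal M) [x.IsPrime] (hx : x.comap (algebraMap A M) = s)
    (hP : ∀ a, ψ (a ⊗ₜ 1) = 0 ↔ a ∈ P)
    (hM : RingHom.ker ((ψ : A' ⊗[A] M →+* F).comp (Algebra.TensorProduct.includeRight (R := A) (A := A') (B := M)).toRingHom) = x) :
    ∃ ι : x.ResidueField →+* F, ∀ w, ψ w = ι (pt s σ x hx w) := by
  let f : M →+* F := (ψ : A' ⊗[A] M →+* F).comp
    (Algebra.TensorProduct.includeRight (R := A) (A := A') (B := M)).toRingHom
  have hf₁ : x ≤ RingHom.ker f := hM.ge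
  have hf₂ : x.primeCompl ≤ (IsUnit.submonoid F).comap f := fun m hm => by
    refine isUnit_iff_ne_zero.2 fun h0 => hm (hM.le ?_)
    exact h0
  let ι : x.ResidueField →+* F := Ideal.ResidueField.lift x f hf₁ hf₂
  refine ⟨ι, fun w => ?_⟩
  -- the two homomorphisms from the residue field of `s`
  let g : A' →ₐ[A] F := ψ.comp Algebra.TensorProduct.includeLeft
  let gP : P.ResidueField →+* F := Ideal.ResidueField.lift P (g : A' →+* F) (fun a ha => (hP a).2 ha)
    (fun a ha => isUnit_iff_ne_zero.2 fun h0 => ha ((hP a).1 h0))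
  let gs : s.ResidueField →+* F := gP.comp (μ.symm : s.ResidueField →+* P.ResidueField)
  have hgs : ∀ a, gs (σ a) = g a := fun a => by
    show gP (μ.symm (σ a)) = g a
    rw [hσ, AlgEquiv.symm_apply_apply]
    exact Ideal.ResidueField.lift_algebraMap _ _ _ _ a
  have heq : gs = ι.comp (Ideal.ResidueField.mapₐ s x (Algebra.ofId A M) hx.symm).toRingHom :=
    residueField_ext s fun a => by
      have h1 : algebraMap A s.ResidueField a = σ (algebraMap A A' a) := (σ.commutes a).symm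
      rw [h1, hgs, ← h1]
      show g (algebraMap A A' a) = ι (Ideal.ResidueField.mapₐ s x (Algebra.ofId A M) hx.symm (algebraMap A _ a))
      rw [AlgHom.commutes, AlgHom.commutes, IsScalarTower.algebraMap_apply A M x.ResidueField,
        Ideal.ResidueField.lift_algebraMap]
      show algebraMap A F a = ψ ((1 : A') ⊗ₜ algebraMap A M a)
      rw [← Algebra.TensorProduct.algebraMap_apply' (R := A) (A := A') (B := M), AlgHom.commutes]
  induction w using TensorProduct.induction_on with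
  | zero => rw [map_zero, map_zero, map_zero]
  | add u v hu hv => rw [map_add, map_add, map_add, hu, hv]
  | tmul a m =>
    rw [pt_tmul, map_mul, Ideal.ResidueField.lift_algebraMap]
    have h2 : ι (Ideal.ResidueField.mapₐ s x (Algebra.ofId A M) hx.symm (σ a)) = g a :=
      (RingHom.congr_fun heq (σ a)).symm.trans (hgs a)
    rw [h2]
    show ψ (a ⊗ₜ m) = ψ (a ⊗ₜ 1) * ψ (1 ⊗ₜ m)
    rw [← map_mul, Algebra.TensorProduct.tmul_mul_tmul, mul_one, one_mul]

section Classes

variable {B C : Type u} [CommRing B] [CommRing C] [Algebra A B] [Algebra A C]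
  [Algebra.IsIntegral A B] [Algebra.IsIntegral A C] (φ₁ φ₂ : B →ₐ[A] C)

/-- The relation defined by the two maps. -/
def Rel (x x' : Ideal B) : Prop :=
  ∃ r : Ideal C, r.IsPrime ∧ r.comap φ₁ = x ∧ r.comap φ₂ = x'

omit s σ

/-- Over a prime with finite fibre, the equalizer separates the classes. -/
theorem rel_of_comap_eq (p : Ideal A) [p.IsPrime] (hfin : (p.primesOver B).Finite)
    (hrefl : ∀ x : Ideal B, x.IsPrime → Rel φ₁ φ₂ x x)
    (hsymm : ∀ x y : Ideal B, Rel φ₁ φ₂ x y → Rel φ₁ φ₂ y x)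
    (htrans : ∀ x y z : Ideal B, Rel φ₁ φ₂ x y → Rel φ₁ φ₂ y z → Rel φ₁ φ₂ x z)
    (x y : Ideal B) [x.IsPrime] [y.IsPrime] (hx : x.comap (algebraMap A B) = p)
    (hy : y.comap (algebraMap A B) = p)
    (h : x.comap (AlgHom.equalizer φ₁ φ₂).val = y.comap (AlgHom.equalizer φ₁ φ₂).val) :
    Rel φ₁ φ₂ x y := by
  classical
  by_contra hne
  -- a finite subalgebra separating the fibre
  have hsep : ∀ z ∈ p.primesOver B ×ˢ p.primesOver B, ∃ b : B, z.1 ≠ z.2 → (¬ (b ∈ z.1 ↔ b ∈ z.2)) := fun z _ => by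
    by_cases hz : z.1 = z.2
    · exact ⟨0, fun h => absurd hz h⟩
    · by_contra hb
      push Not at hb
      exact hz (Ideal.ext fun b => (hb b).2)
  choose! bsep hbsep using hsep
  let T : Set B := bsep '' (p.primesOver B ×ˢ p.primesOver B)
  have hT : T.Finite := (hfin.prod hfin).image _
  let B₀ := Algebra.adjoin A T
  haveI : Module.Finite A B₀ := Module.Finite.iff_fg.mpr
    (fg_adjoin_of_finite hT fun b _ => Algebra.IsIntegral.isIntegral b)
  obtain ⟨A', _, _, _, P, _, hPp, n, e, he, P', _, _, hbij, -, huniq⟩ :=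
    Algebra.exists_etale_completeOrthogonalIdempotents_forall_liesOver_eq (R := A) (S := B₀) p
  let μ := Ideal.ResidueField.mapₐ p P (Algebra.ofId A A') (P.over_def p)
  let μe : p.ResidueField ≃ₐ[A] P.ResidueField := AlgEquiv.ofBijective μ hbij
  let σ : A' →ₐ[A] p.ResidueField := μe.symm.toAlgHom.comp (IsScalarTower.toAlgHom A A' P.ResidueField)
  have hσ0 : ∀ a, σ a = 0 ↔ a ∈ P := fun a => by
    refine Iff.trans ?_ Ideal.algebraMap_residueField_eq_zero
    exact map_eq_zero_iff μe.symm μe.symm.injective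
  have hσ : ∀ a, σ a = μe.symm (algebraMap A' P.ResidueField a) := fun _ => rfl
  -- points of the fibre of `B₀`
  let j : A' ⊗[A] B₀ →ₐ[A] A' ⊗[A] B := Algebra.TensorProduct.map (AlgHom.id A A') B₀.val
  let χ : ∀ (z : Ideal B) (hz : z ∈ p.primesOver B),
      haveI := hz.1
      A' ⊗[A] B →ₐ[A] z.ResidueField := fun z hz =>
    haveI := hz.1
    pt p σ z hz.2.over.symm
  let Q : ∀ (z : Ideal B) (_ : z ∈ p.primesOver B), Ideal (A' ⊗[A] B₀) := fun z hz =>
    haveI := hz.1
    RingHom.ker ((χ z hz).comp j : A' ⊗[A] B₀ →+* z.ResidueField)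
  have hQ : ∀ z hz, (Q z hz).IsPrime ∧ (Q z hz).LiesOver P := fun z hz => by
    haveI := hz.1
    refine ⟨RingHom.ker_isPrime _, ⟨Ideal.ext fun a => ?_⟩⟩
    show a ∈ P ↔ χ z hz (j (a ⊗ₜ 1)) = 0
    rw [Algebra.TensorProduct.map_tmul, map_one, AlgHom.id_apply, pt_tmul, map_one, mul_one, map_eq_zero,
      hσ0]
  have hQinj : ∀ z hz z' hz', Q z hz = Q z' hz' → z = z' := fun z hz z' hz' hQQ => by
    by_contra hzz
    haveI := hz.1
    haveI := hz'.1
    have hb : bsep (z, z') ∈ B₀ := Algebra.subset_adjoin ⟨(z, z'), ⟨hz, hz'⟩, rfl⟩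
    refine hbsep (z, z') ⟨hz, hz'⟩ hzz ?_
    have h1 := SetLike.ext_iff.1 hQQ ((1 : A') ⊗ₜ ⟨bsep (z, z'), hb⟩)
    have h1 : χ z hz (j ((1 : A') ⊗ₜ ⟨bsep (z, z'), hb⟩)) = 0 ↔
        χ z' hz' (j ((1 : A') ⊗ₜ ⟨bsep (z, z'), hb⟩)) = 0 := h1
    rw [Algebra.TensorProduct.map_tmul, AlgHom.id_apply, pt_includeRight, pt_includeRight,
      Ideal.algebraMap_residueField_eq_zero, Ideal.algebraMap_residueField_eq_zero] at h1
    exact h1
  -- the idempotents seen by a point
  have hidx : ∀ z hz, ∃ i : Fin n, e i.castSucc ∉ Q z hz := fun z hz => by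
    haveI := (hQ z hz).1
    haveI := (hQ z hz).2
    by_contra hcon
    push Not at hcon
    refine (hQ z hz).1.one_notMem ?_
    rw [← he.complete]
    refine Ideal.sum_mem _ fun i _ => ?_
    refine Fin.lastCases ?_ (fun i => ?_) i
    · exact (huniq (Q z hz) (hQ z hz).1 (hQ z hz).2).1
    · exact hcon i
  choose idx hidx using hidx
  have hQidx : ∀ z hz i, e (Fin.castSucc i) ∉ Q z hz → i = idx z hz := fun z hz i hi => by
    by_contra hne'
    have h0 : e i.castSucc * e (idx z hz).castSucc ∈ Q z hz := by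
      rw [he.ortho (fun h => hne' (Fin.castSucc_injective _ h))]
      exact zero_mem _
    rcases (hQ z hz).1.mem_or_mem h0 with h' | h'
    · exact hi h'
    · exact hidx z hz h'
  -- the idempotent of the class of `x`
  let I : Finset (Fin n) := Finset.univ.filter fun i => ∃ z, ∃ hz : z ∈ p.primesOver B, Rel φ₁ φ₂ x z ∧ idx z hz = i
  let E : A' ⊗[A] B₀ := ∑ i ∈ I, e i.castSucc
  have hEidem : IsIdempotentElem E := by
    show E * E = E
    rw [Finset.sum_mul]
    refine Finset.sum_congr rfl fun i hi => ?_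
    rw [Finset.mul_sum, Finset.sum_eq_single_of_mem _ hi fun j _ hj =>
      he.ortho fun h => hj (Fin.castSucc_injective _ h).symm]
    exact he.idem _
  have hEval : ∀ z hz, (E ∈ Q z hz ↔ ¬ Rel φ₁ φ₂ x z) := fun z hz => by
    constructor
    · intro hE hrel
      have hmem : idx z hz ∈ I := Finset.mem_filter.2 ⟨Finset.mem_univ _, z, hz, hrel, rfl⟩
      refine hidx z hz ?_
      have h2 : e (idx z hz).castSucc * E = e (idx z hz).castSucc := by
        rw [Finset.mul_sum, Finset.sum_eq_single_of_mem _ hmem fun i _ hi =>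
          he.ortho fun h => hi (Fin.castSucc_injective _ h).symm]
        exact he.idem _
      rw [← h2]
      exact Ideal.mul_mem_left _ _ hE
    · intro hrel
      refine Ideal.sum_mem _ fun i hi => ?_
      by_contra hni
      obtain ⟨z', hz', hrel', hi'⟩ := (Finset.mem_filter.1 hi).2
      have h3 : idx z hz = idx z' hz' := (hQidx z hz i hni).symm.trans hi'.symm
      have h4 : Q z hz = P' (idx z hz) :=
        (huniq (Q z hz) (hQ z hz).1 (hQ z hz).2).2 _ (hidx z hz)
      have h5 : Q z' hz' = P' (idx z' hz') :=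
        (huniq (Q z' hz') (hQ z' hz').1 (hQ z' hz').2).2 _ (hidx z' hz')
      rw [h3, ← h5] at h4
      exact hrel (hQinj z hz z' hz' h4 ▸ hrel')
  let Φ₁ : A' ⊗[A] B →ₐ[A'] A' ⊗[A] C := Algebra.TensorProduct.map (AlgHom.id A' A') φ₁
  let Φ₂ : A' ⊗[A] B →ₐ[A'] A' ⊗[A] C := Algebra.TensorProduct.map (AlgHom.id A' A') φ₂
  let v : A' ⊗[A] B := j E
  let d : A' ⊗[A] C := (Φ₁ v - Φ₂ v) ^ 2
  have hd : ∀ R : Ideal (A' ⊗[A] C), R.IsPrime → R.comap (algebraMap A' (A' ⊗[A] C)) = P → d ∈ R := by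
    intro R hR hRP
    let F := R.ResidueField
    let ψ : A' ⊗[A] C →ₐ[A] F := IsScalarTower.toAlgHom A (A' ⊗[A] C) F
    let r : Ideal C := R.comap (Algebra.TensorProduct.includeRight (R := A) (A := A') (B := C)).toRingHom
    have hr : r.IsPrime := inferInstance
    have key : ∀ (φ : B →ₐ[A] C), ∃ hz : r.comap φ ∈ p.primesOver B,
        ψ (Algebra.TensorProduct.map (AlgHom.id A A') φ v) = 0 ↔ ¬ Rel φ₁ φ₂ x (r.comap φ) := by
      intro φ
      have hzp : (r.comap φ).comap (algebraMap A B) = p := by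
        ext a
        rw [Ideal.mem_comap, Ideal.mem_comap, AlgHom.commutes]
        show (1 : A') ⊗ₜ[A] algebraMap A C a ∈ R ↔ a ∈ p
        rw [← Algebra.TensorProduct.algebraMap_apply' (R := A) (A := A') (B := C), Algebra.TensorProduct.algebraMap_apply]
        show algebraMap A A' a ∈ R.comap (algebraMap A' (A' ⊗[A] C)) ↔ _
        rw [hRP]
        exact (Ideal.mem_of_liesOver P p a).symm
      haveI : (r.comap φ).IsPrime := inferInstance
      have hz : r.comap φ ∈ p.primesOver B := ⟨inferInstance, ⟨hzp.symm⟩⟩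
      refine ⟨hz, ?_⟩
      let ψ' : A' ⊗[A] B →ₐ[A] F := ψ.comp (Algebra.TensorProduct.map (AlgHom.id A A') φ)
      have hM : RingHom.ker ((ψ' : A' ⊗[A] B →+* F).comp
          (Algebra.TensorProduct.includeRight (R := A) (A := A') (B := B)).toRingHom) = r.comap φ := by
        ext b
        show ψ (Algebra.TensorProduct.map (AlgHom.id A A') φ ((1 : A') ⊗ₜ b)) = 0 ↔ _
        rw [Algebra.TensorProduct.map_tmul, map_one]
        exact Ideal.algebraMap_residueField_eq_zero
      obtain ⟨ι, hι⟩ := exists_factor p σ P μe.symm hσ ψ' (r.comap φ) hzp (fun a => by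
        show ψ (Algebra.TensorProduct.map (AlgHom.id A A') φ (a ⊗ₜ 1)) = 0 ↔ _
        rw [Algebra.TensorProduct.map_tmul, map_one, AlgHom.id_apply]
        refine Ideal.algebraMap_residueField_eq_zero.trans ?_
        exact SetLike.ext_iff.1 hRP a) hM
      show ψ' v = 0 ↔ _
      rw [hι v, map_eq_zero_iff ι ι.injective]
      exact hEval (r.comap φ) hz
    obtain ⟨hz₁, h₁⟩ := key φ₁
    obtain ⟨hz₂, h₂⟩ := key φ₂
    have hr12 : Rel φ₁ φ₂ (r.comap φ₁) (r.comap φ₂) := ⟨r, hr, rfl, rfl⟩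
    have hiff : ψ (Φ₁ v) = 0 ↔ ψ (Φ₂ v) = 0 :=
      h₁.trans (Iff.trans (not_congr ⟨fun h => htrans _ _ _ h hr12,
        fun h => htrans _ _ _ h (hsymm _ _ hr12)⟩) h₂.symm)
    refine Ideal.algebraMap_residueField_eq_zero.1 (show ψ d = 0 from ?_)
    have hi₁ : IsIdempotentElem (ψ (Φ₁ v)) := (((hEidem.map j).map Φ₁).map ψ :)
    have hi₂ : IsIdempotentElem (ψ (Φ₂ v)) := (((hEidem.map j).map Φ₂).map ψ :)
    rw [map_pow, map_sub]
    rcases (IsIdempotentElem.iff_eq_zero_or_one.1 hi₁) with a1 | a1 <;>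
      rcases (IsIdempotentElem.iff_eq_zero_or_one.1 hi₂) with a2 | a2 <;>
      simp [a1, a2] at hiff ⊢
  -- killing `d` away from `P`
  have hdd : d * d = d ∧ (Φ₁ v - Φ₂ v) * d = Φ₁ v - Φ₂ v := by
    have i₁ : Φ₁ v * Φ₁ v = Φ₁ v := ((hEidem.map j).map Φ₁ :)
    have i₂ : Φ₂ v * Φ₂ v = Φ₂ v := ((hEidem.map j).map Φ₂ :)
    have h3 : (Φ₁ v - Φ₂ v) * d = Φ₁ v - Φ₂ v := by
      show (Φ₁ v - Φ₂ v) * (Φ₁ v - Φ₂ v) ^ 2 = _
      linear_combination (Φ₁ v + 1 - 3 * Φ₂ v) * i₁ + (3 * Φ₁ v - Φ₂ v - 1) * i₂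
    refine ⟨?_, h3⟩
    show (Φ₁ v - Φ₂ v) ^ 2 * d = (Φ₁ v - Φ₂ v) ^ 2
    rw [pow_two, mul_assoc, h3]
  haveI : Algebra.IsIntegral A' (A' ⊗[A] C) := inferInstance
  obtain ⟨g, hgP, hg⟩ : ∃ g : A', g ∉ P ∧ algebraMap A' (A' ⊗[A] C) g ∈ Ideal.span {1 - d} := by
    by_contra hcon
    push Not at hcon
    obtain ⟨R, hR1, hR2, hR3⟩ := Ideal.exists_ideal_over_prime_of_isIntegral P (Ideal.span {1 - d})
      (fun a ha => by_contra fun h => hcon a h ha)
    have h1 : 1 - d ∈ R := hR1 (Ideal.subset_span rfl)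
    have h2 := hd R hR2 hR3
    exact hR2.one_notMem (by simpa using add_mem h1 h2)
  have hgd : algebraMap A' (A' ⊗[A] C) g * (Φ₁ v - Φ₂ v) = 0 := by
    obtain ⟨c, hc⟩ := Ideal.mem_span_singleton'.1 hg
    rw [← hc]
    linear_combination (-c) * hdd.2
  let w : A' ⊗[A] B := algebraMap A' _ g * v
  have hw : Φ₁ w = Φ₂ w := by
    rw [map_mul, map_mul, AlgHom.commutes, AlgHom.commutes, ← sub_eq_zero, ← mul_sub]
    exact hgd
  -- descend along the flat base change
  let δ : B →ₗ[A] C := φ₁.toLinearMap - φ₂.toLinearMap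
  have hexact : Function.Exact (AlgHom.equalizer φ₁ φ₂).val.toLinearMap δ := fun b => by
    constructor
    · intro hb
      exact ⟨⟨b, sub_eq_zero.1 hb⟩, rfl⟩
    · rintro ⟨b', rfl⟩
      exact sub_eq_zero.2 b'.2
  obtain ⟨w₀, hw₀⟩ := ((Module.Flat.lTensor_exact (R := A) A') hexact w).1 (by
    have hsub : ∀ u, LinearMap.lTensor A' δ u = Φ₁ u - Φ₂ u := fun u => by
      induction u using TensorProduct.induction_on with
      | zero => simp
      | add s t hs ht => rw [map_add, hs, ht, map_add, map_add]; abel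
      | tmul a b => simp [δ, Φ₁, Φ₂, TensorProduct.tmul_sub]
    rw [hsub, hw, sub_self])
  let emb : A' ⊗[A] (AlgHom.equalizer φ₁ φ₂) →ₐ[A] A' ⊗[A] B :=
    Algebra.TensorProduct.map (AlgHom.id A A') (AlgHom.equalizer φ₁ φ₂).val
  have hemb : emb w₀ = w := hw₀
  -- both points restrict to the same point of the equalizer
  have hval : ∀ (z : Ideal B) (hz : z ∈ p.primesOver B), (χ z hz w = 0 ↔ ¬ Rel φ₁ φ₂ x z) := fun z hz => by
    haveI := hz.1
    show pt p σ z _ (algebraMap A' _ g * j E) = 0 ↔ _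
    rw [map_mul, mul_eq_zero]
    refine (or_iff_right ?_).trans (hEval z hz)
    rw [Algebra.TensorProduct.algebraMap_apply, pt_tmul, map_one, mul_one, map_eq_zero, Algebra.algebraMap_self,
      RingHom.id_apply, hσ0]
    exact hgP
  have hxz : x ∈ p.primesOver B := ⟨‹_›, ⟨hx.symm⟩⟩
  have hyz : y ∈ p.primesOver B := ⟨‹_›, ⟨hy.symm⟩⟩
  let q := x.comap (AlgHom.equalizer φ₁ φ₂).val
  have hqp : q.comap (algebraMap A (AlgHom.equalizer φ₁ φ₂)) = p := by
    ext a
    rw [← hx]
    rfl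
  have hboth : ∀ (z : Ideal B) (hz : z ∈ p.primesOver B), z.comap (AlgHom.equalizer φ₁ φ₂).val = q →
      (χ z hz w = 0 ↔ pt p σ q hqp w₀ = 0) := fun z hz hzq => by
    haveI := hz.1
    have hM : RingHom.ker (((χ z hz).comp emb : _ →+* z.ResidueField).comp
        (Algebra.TensorProduct.includeRight (R := A) (A := A') (B := AlgHom.equalizer φ₁ φ₂)).toRingHom) = q := by
      ext b
      show χ z hz (emb ((1 : A') ⊗ₜ b)) = 0 ↔ _
      rw [Algebra.TensorProduct.map_tmul, AlgHom.id_apply, pt_includeRight, Ideal.algebraMap_residueField_eq_zero,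
        ← hzq]
      rfl
    obtain ⟨ι, hι⟩ := exists_factor p σ P μe.symm hσ ((χ z hz).comp emb) q hqp (fun a => by
      show χ z hz (emb (a ⊗ₜ 1)) = 0 ↔ _
      rw [Algebra.TensorProduct.map_tmul, map_one, AlgHom.id_apply, pt_tmul, map_one, mul_one, map_eq_zero,
        hσ0]) hM
    rw [← hemb]
    show ((χ z hz).comp emb) w₀ = 0 ↔ _
    rw [hι w₀, map_eq_zero_iff ι ι.injective]
  have hA := (hboth x hxz rfl).trans (hboth y hyz h.symm).symm
  rw [hval x hxz, hval y hyz] at hA
  exact hA.2 hne (hrefl x ‹_›)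

end Classes

end Groth.Agent.IntQuot25
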