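import Groth.Agent.IntQuot25.Glue
import Mathlib.Geometry.RingedSpace.LocallyRingedSpace.HasColimits
import Mathlib.RingTheory.Ideal.GoingUp

/-!
# The quotient of a finite-fibred integral scheme by an equivalence relation is the coequalizer of ringed spaces
-/

set_option autoImplicit false
set_option backward.isDefEq.respectTransparency.types false
set_option backward.isDefEq.respectTransparency false
set_option linter.style.haveILetI false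
set_option linter.unusedSectionVars false
set_option maxHeartbeats 1000000

noncomputable section

open CategoryTheory Limits AlgebraicGeometry Opposite TopologicalSpace
open AlgebraicGeometry.Scheme

universe u

namespace Groth.Agent.IntQuot25

variable {S X R : Scheme.{u}} (f : X ⟶ S) (g : R ⟶ S) (p₁ p₂ : R ⟶ X) (hp₁ : p₁ ≫ f = g) (hp₂ : p₂ ≫ f = g)
  [IsIntegralHom f] [IsIntegralHom g]

local notation "qq" => toQuot f g p₁ p₂ hp₁ hp₂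
local notation "hh" => fromQuot f g p₁ p₂ hp₁ hp₂
local notation "YY" => quot f g p₁ p₂ hp₁ hp₂

theorem isIntegral_eqVal (U : S.affineOpens) : (eqVal f g p₁ p₂ hp₁ hp₂ U.1).hom.IsIntegral := by
  refine RingHom.IsIntegral.tower_top ((eqDiagramMap f g p₁ p₂ hp₁ hp₂).app (.op U.1)).hom _ ?_
  exact Scheme.Hom.isIntegral_app f U.1 U.2

theorem surjective_toQuot : Function.Surjective (qq : X → YY) := by
  intro y
  obtain ⟨U, z, rfl⟩ := (quotCover f g p₁ p₂ hp₁ hp₂).exists_eq y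
  let E := eqRing f g p₁ p₂ hp₁ hp₂ U.1
  haveI : Algebra.IsIntegral E Γ(X, f ⁻¹ᵁ U.1) := ⟨isIntegral_eqVal f g p₁ p₂ hp₁ hp₂ U⟩
  let P : PrimeSpectrum E := z
  obtain ⟨Q, -, hQ, hQP⟩ := Ideal.exists_ideal_over_prime_of_isIntegral P.asIdeal (⊥ : Ideal Γ(X, f ⁻¹ᵁ U.1))
    (by
      intro a ha
      have : (a : Γ(X, f ⁻¹ᵁ U.1)) = 0 := ha
      rw [show a = 0 from Subtype.ext this]
      exact zero_mem _)
  refine ⟨(U.2.preimage f).fromSpec ⟨Q, hQ⟩, ?_⟩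
  have h := congrArg (fun m : _ ⟶ YY => m (⟨Q, hQ⟩ : PrimeSpectrum Γ(X, f ⁻¹ᵁ U.1))) (fromSpec_toQuot f g p₁ p₂ hp₁ hp₂ U)
  refine h.trans ?_
  show (quotCover f g p₁ p₂ hp₁ hp₂).f U _ = _
  congr 1
  exact PrimeSpectrum.ext hQP

theorem rel_of_toQuot_eq (hfin : ∀ s : S, (f ⁻¹' {s}).Finite)
    (heqv : Equivalence (fun x x' : X => ∃ r : R, p₁ r = x ∧ p₂ r = x')) {x x' : X} (hxx' : qq x = qq x') :
    ∃ r : R, p₁ r = x ∧ p₂ r = x' := by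
  have hq : ∀ a, hh (qq a) = f a := fun a =>
    congrArg (fun m : X ⟶ S => m a) (toQuot_fromQuot f g p₁ p₂ hp₁ hp₂)
  have hfx : f x' = f x := by rw [← hq, ← hq, hxx']
  obtain ⟨_, ⟨U₀, hU₀, rfl⟩, hxU, -⟩ :=
    S.isBasis_affineOpens.exists_subset_of_mem_open (Set.mem_univ (f x)) isOpen_univ
  let U : S.affineOpens := ⟨U₀, hU₀⟩
  have hXU := U.2.preimage f
  have hRU := U.2.preimage g
  obtain ⟨a, rfl⟩ : x ∈ Set.range hXU.fromSpec := hXU.range_fromSpec.symm ▸ hxU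
  obtain ⟨a', rfl⟩ : x' ∈ Set.range hXU.fromSpec := hXU.range_fromSpec.symm ▸ (show f x' ∈ U.1 from hfx.symm ▸ hxU)
  letI : Algebra Γ(S, U.1) Γ(X, f ⁻¹ᵁ U.1) := (f.app U.1).hom.toAlgebra
  letI : Algebra Γ(S, U.1) Γ(R, g ⁻¹ᵁ U.1) := (g.app U.1).hom.toAlgebra
  haveI : Algebra.IsIntegral Γ(S, U.1) Γ(X, f ⁻¹ᵁ U.1) := ⟨Scheme.Hom.isIntegral_app f U.1 U.2⟩
  haveI : Algebra.IsIntegral Γ(S, U.1) Γ(R, g ⁻¹ᵁ U.1) := ⟨Scheme.Hom.isIntegral_app g U.1 U.2⟩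
  let φ₁ : Γ(X, f ⁻¹ᵁ U.1) →ₐ[Γ(S, U.1)] Γ(R, g ⁻¹ᵁ U.1) :=
    { (secMap f g p₁ hp₁ U.1).hom with commutes' := secMap_app f g p₁ hp₁ U.1 }
  let φ₂ : Γ(X, f ⁻¹ᵁ U.1) →ₐ[Γ(S, U.1)] Γ(R, g ⁻¹ᵁ U.1) :=
    { (secMap f g p₂ hp₂ U.1).hom with commutes' := secMap_app f g p₂ hp₂ U.1 }
  have hp : ∀ (p : R ⟶ X) (hp : p ≫ f = g) (r : PrimeSpectrum Γ(R, g ⁻¹ᵁ U.1)),
      p (hRU.fromSpec r) = hXU.fromSpec (PrimeSpectrum.comap (secMap f g p hp U.1).hom r) := fun p hp r =>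
    congrArg (fun m : _ ⟶ X => m r) (fromSpec_p f g p hp U)
  have hrel : ∀ b b' : PrimeSpectrum Γ(X, f ⁻¹ᵁ U.1),
      Rel φ₁ φ₂ b.asIdeal b'.asIdeal ↔ ∃ r : R, p₁ r = hXU.fromSpec b ∧ p₂ r = hXU.fromSpec b' := fun b b' => by
    constructor
    · rintro ⟨r, hr, h₁, h₂⟩
      refine ⟨hRU.fromSpec ⟨r, hr⟩, ?_, ?_⟩
      · rw [hp p₁ hp₁]; congr 1; exact PrimeSpectrum.ext h₁
      · rw [hp p₂ hp₂]; congr 1; exact PrimeSpectrum.ext h₂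
    · rintro ⟨r, h₁, h₂⟩
      obtain ⟨c, rfl⟩ : r ∈ Set.range hRU.fromSpec := by
        rw [hRU.range_fromSpec]
        show g r ∈ U.1
        rw [← hp₁, Scheme.Hom.comp_apply, h₁]
        exact hXU.range_fromSpec.le ⟨b, rfl⟩
      rw [hp p₁ hp₁] at h₁
      rw [hp p₂ hp₂] at h₂
      exact ⟨c.asIdeal, c.2, congrArg PrimeSpectrum.asIdeal (hXU.fromSpec.isOpenEmbedding.injective h₁),
        congrArg PrimeSpectrum.asIdeal (hXU.fromSpec.isOpenEmbedding.injective h₂)⟩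
  have hrel' : ∀ u v, Rel φ₁ φ₂ u v → u.IsPrime ∧ v.IsPrime := fun u v ⟨r, hr, h₁, h₂⟩ =>
    ⟨h₁ ▸ inferInstance, h₂ ▸ inferInstance⟩
  have hf : ∀ b : PrimeSpectrum Γ(X, f ⁻¹ᵁ U.1),
      f (hXU.fromSpec b) = U.2.fromSpec (PrimeSpectrum.comap (f.app U.1).hom b) := fun b => by
    have h := congrArg (fun m : _ ⟶ S => m b) (U.2.SpecMap_appLE_fromSpec f hXU le_rfl)
    rw [← Scheme.Hom.app_eq_appLE] at h
    exact h.symm
  let P : PrimeSpectrum Γ(S, U.1) := PrimeSpectrum.comap (f.app U.1).hom a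
  haveI : P.asIdeal.IsPrime := P.2
  have hPfin : (P.asIdeal.primesOver Γ(X, f ⁻¹ᵁ U.1)).Finite := by
    have h1 : (hXU.fromSpec ⁻¹' (f ⁻¹' {f (hXU.fromSpec a)})).Finite :=
      (hfin _).preimage hXU.fromSpec.isOpenEmbedding.injective.injOn
    refine (h1.image fun b : PrimeSpectrum Γ(X, f ⁻¹ᵁ U.1) => b.asIdeal).subset ?_
    rintro Q ⟨hQ, hQP⟩
    refine ⟨⟨Q, hQ⟩, ?_, rfl⟩
    show f (hXU.fromSpec ⟨Q, hQ⟩) = f (hXU.fromSpec a)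
    rw [hf, hf]
    congr 1
    exact PrimeSpectrum.ext hQP.over.symm
  have ha' : a'.asIdeal.comap (algebraMap Γ(S, U.1) Γ(X, f ⁻¹ᵁ U.1)) = P.asIdeal := by
    rw [hf, hf] at hfx
    exact congrArg PrimeSpectrum.asIdeal (U.2.fromSpec.isOpenEmbedding.injective hfx)
  have hcomap : a.asIdeal.comap (eqVal f g p₁ p₂ hp₁ hp₂ U.1).hom =
      a'.asIdeal.comap (eqVal f g p₁ p₂ hp₁ hp₂ U.1).hom := by
    have e : ∀ b, qq (hXU.fromSpec b) = (quotCover f g p₁ p₂ hp₁ hp₂).f U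
        (PrimeSpectrum.comap (eqVal f g p₁ p₂ hp₁ hp₂ U.1).hom b) := fun b =>
      congrArg (fun m : _ ⟶ YY => m b) (fromSpec_toQuot f g p₁ p₂ hp₁ hp₂ U)
    rw [e, e] at hxx'
    exact congrArg PrimeSpectrum.asIdeal (((quotCover f g p₁ p₂ hp₁ hp₂).f U).isOpenEmbedding.injective hxx')
  refine (hrel a a').1 (rel_of_comap_eq φ₁ φ₂ P.asIdeal hPfin ?_ ?_ ?_ a.asIdeal a'.asIdeal rfl ha' ?_)
  · exact fun u hu => (hrel ⟨u, hu⟩ ⟨u, hu⟩).2 (heqv.refl _)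
  · intro u v h
    obtain ⟨hu, hv⟩ := hrel' u v h
    exact (hrel ⟨v, hv⟩ ⟨u, hu⟩).2 (heqv.symm ((hrel ⟨u, hu⟩ ⟨v, hv⟩).1 h))
  · intro u v w h h'
    obtain ⟨hu, hv⟩ := hrel' u v h
    obtain ⟨-, hw⟩ := hrel' v w h'
    exact (hrel ⟨u, hu⟩ ⟨w, hw⟩).2
      (heqv.trans ((hrel ⟨u, hu⟩ ⟨v, hv⟩).1 h) ((hrel ⟨v, hv⟩ ⟨w, hw⟩).1 h'))
  · exact Ideal.ext fun e => SetLike.ext_iff.1 hcomap ⟨e.1, e.2⟩

/-- Sections of the quotient over `W` are the sections equalized by the two maps. -/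
def Good (W : (quot f g p₁ p₂ hp₁ hp₂).Opens) : Prop :=
  ∀ (V : X.Opens) (hV : V = toQuot f g p₁ p₂ hp₁ hp₂ ⁻¹ᵁ W) (V' : R.Opens) (h₁ : V' = p₁ ⁻¹ᵁ V) (h₂ : V' ≤ p₂ ⁻¹ᵁ V),
    Function.Injective ((toQuot f g p₁ p₂ hp₁ hp₂).appLE W V hV.le) ∧
      ∀ b : Γ(X, V), p₁.appLE V V' h₁.le b = p₂.appLE V V' h₂ b →
        ∃ s, (toQuot f g p₁ p₂ hp₁ hp₂).appLE W V hV.le s = b

theorem isAffineOpen_preimage_quot (U : S.affineOpens) : IsAffineOpen (hh ⁻¹ᵁ U.1) := U.2.preimage hh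

theorem good_affine (U : S.affineOpens) : Good f g p₁ p₂ hp₁ hp₂ (hh ⁻¹ᵁ U.1) := by
  intro V hV V' h₁ h₂
  obtain rfl : V = f ⁻¹ᵁ U.1 := by rw [hV, ← Scheme.Hom.comp_preimage, toQuot_fromQuot]
  obtain rfl : V' = g ⁻¹ᵁ U.1 := by rw [h₁, ← Scheme.Hom.comp_preimage, hp₁]
  have hW := isAffineOpen_preimage_quot f g p₁ p₂ hp₁ hp₂ U
  let c := quotCover f g p₁ p₂ hp₁ hp₂
  let e := IsOpenImmersion.isoOfRangeEq (c.f U) hW.fromSpec (by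
    rw [hW.range_fromSpec, fromQuot_preimage f g p₁ p₂ hp₁ hp₂ U]; rfl)
  obtain ⟨ψ, hψ⟩ := Spec.map_surjective e.hom
  obtain ⟨χ, hχ⟩ := Spec.map_surjective e.inv
  haveI : IsIso ψ := ⟨χ, Spec.map_injective (by rw [Spec.map_comp, hψ, hχ, Iso.inv_hom_id, Spec.map_id]),
    Spec.map_injective (by rw [Spec.map_comp, hψ, hχ, Iso.hom_inv_id, Spec.map_id])⟩
  have happ : (toQuot f g p₁ p₂ hp₁ hp₂).appLE (hh ⁻¹ᵁ U.1) (f ⁻¹ᵁ U.1) hV.le =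
      ψ ≫ eqVal f g p₁ p₂ hp₁ hp₂ U.1 := by
    refine Spec.map_injective ?_
    rw [← cancel_mono hW.fromSpec, hW.SpecMap_appLE_fromSpec _ (U.2.preimage f), Spec.map_comp, Category.assoc,
      fromSpec_toQuot, hψ, IsOpenImmersion.isoOfRangeEq_hom_fac]
  have hψb : Function.Bijective ψ := ConcreteCategory.bijective_of_isIso ψ
  constructor
  · rw [happ]
    exact fun s t h => hψb.1 (Subtype.ext h)
  · intro b hb
    obtain ⟨s, hs⟩ := hψb.2 (⟨b, hb⟩ : eqRing f g p₁ p₂ hp₁ hp₂ U.1)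
    refine ⟨s, ?_⟩
    rw [happ]
    exact congrArg Subtype.val hs

theorem good_basicOpen (hw : p₁ ≫ toQuot f g p₁ p₂ hp₁ hp₂ = p₂ ≫ toQuot f g p₁ p₂ hp₁ hp₂) (U : S.affineOpens)
    (e : Γ(quot f g p₁ p₂ hp₁ hp₂, fromQuot f g p₁ p₂ hp₁ hp₂ ⁻¹ᵁ U.1)) :
    Good f g p₁ p₂ hp₁ hp₂ ((quot f g p₁ p₂ hp₁ hp₂).basicOpen e) := by
  intro V hV V' h₁ h₂
  subst hV h₁
  let W₀ := hh ⁻¹ᵁ U.1
  let W := (quot f g p₁ p₂ hp₁ hp₂).basicOpen e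
  have hW₀ : IsAffineOpen W₀ := isAffineOpen_preimage_quot f g p₁ p₂ hp₁ hp₂ U
  have hWle : W ≤ W₀ := (quot f g p₁ p₂ hp₁ hp₂).basicOpen_le e
  haveI : IsIntegralHom p₁ := by
    haveI : IsIntegralHom (p₁ ≫ f) := hp₁ ▸ ‹_›
    exact IsIntegralHom.of_comp p₁ f
  have hV₀ : IsAffineOpen (qq ⁻¹ᵁ W₀) := hW₀.preimage qq
  have hR₀ : IsAffineOpen (p₁ ⁻¹ᵁ (qq ⁻¹ᵁ W₀)) := hV₀.preimage p₁
  have hle₂ : p₁ ⁻¹ᵁ (qq ⁻¹ᵁ W₀) ≤ p₂ ⁻¹ᵁ (qq ⁻¹ᵁ W₀) := by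
    rw [← Scheme.Hom.comp_preimage, hw, Scheme.Hom.comp_preimage]
  obtain ⟨hinj₀, hex₀⟩ := good_affine f g p₁ p₂ hp₁ hp₂ U _ rfl _ rfl hle₂
  let eB : Γ(X, qq ⁻¹ᵁ W₀) := (toQuot f g p₁ p₂ hp₁ hp₂).appLE W₀ _ le_rfl e
  let eC : Γ(R, p₁ ⁻¹ᵁ (qq ⁻¹ᵁ W₀)) := p₁.appLE _ _ le_rfl eB
  have he₂ : p₂.appLE _ _ hle₂ eB = eC := by
    show ((toQuot f g p₁ p₂ hp₁ hp₂).appLE W₀ _ le_rfl ≫ p₂.appLE _ _ hle₂) e = ((toQuot f g p₁ p₂ hp₁ hp₂).appLE W₀ _ le_rfl ≫ p₁.appLE _ _ le_rfl) e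
    rw [Scheme.Hom.appLE_comp_appLE, Scheme.Hom.appLE_comp_appLE]
    congr 2
    simp only [hw]
  letI : Algebra Γ(quot f g p₁ p₂ hp₁ hp₂, W₀) Γ(quot f g p₁ p₂ hp₁ hp₂, W) :=
    ((quot f g p₁ p₂ hp₁ hp₂).presheaf.map (homOfLE hWle).op).hom.toAlgebra
  letI : Algebra Γ(X, qq ⁻¹ᵁ W₀) Γ(X, qq ⁻¹ᵁ W) :=
    (X.presheaf.map (homOfLE (Scheme.Hom.preimage_mono qq hWle)).op).hom.toAlgebra
  letI : Algebra Γ(R, p₁ ⁻¹ᵁ (qq ⁻¹ᵁ W₀)) Γ(R, p₁ ⁻¹ᵁ (qq ⁻¹ᵁ W)) :=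
    (R.presheaf.map (homOfLE (p₁.preimage_mono (Scheme.Hom.preimage_mono qq hWle))).op).hom.toAlgebra
  haveI : IsLocalization.Away e Γ(quot f g p₁ p₂ hp₁ hp₂, W) :=
    hW₀.isLocalization_of_eq_basicOpen e _ rfl
  haveI : IsLocalization.Away eB Γ(X, qq ⁻¹ᵁ W) :=
    hV₀.isLocalization_of_eq_basicOpen eB _ (by
      show qq ⁻¹ᵁ W = _
      rw [show W = (quot f g p₁ p₂ hp₁ hp₂).basicOpen e from rfl, Scheme.preimage_basicOpen,
        Scheme.Hom.app_eq_appLE])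
  haveI : IsLocalization.Away eC Γ(R, p₁ ⁻¹ᵁ (qq ⁻¹ᵁ W)) :=
    hR₀.isLocalization_of_eq_basicOpen eC _ (by
      show p₁ ⁻¹ᵁ (qq ⁻¹ᵁ W) = _
      rw [show W = (quot f g p₁ p₂ hp₁ hp₂).basicOpen e from rfl, Scheme.preimage_basicOpen,
        Scheme.preimage_basicOpen, Scheme.Hom.app_eq_appLE, Scheme.Hom.app_eq_appLE])
  have hres : ∀ t, (toQuot f g p₁ p₂ hp₁ hp₂).appLE W (qq ⁻¹ᵁ W) le_rfl (algebraMap Γ(quot f g p₁ p₂ hp₁ hp₂, W₀) _ t) =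
      algebraMap _ Γ(X, qq ⁻¹ᵁ W) ((toQuot f g p₁ p₂ hp₁ hp₂).appLE W₀ _ le_rfl t) := fun t => by
    show ((quot f g p₁ p₂ hp₁ hp₂).presheaf.map (homOfLE hWle).op ≫ (toQuot f g p₁ p₂ hp₁ hp₂).appLE W _ le_rfl) t =
      ((toQuot f g p₁ p₂ hp₁ hp₂).appLE W₀ _ le_rfl ≫ X.presheaf.map (homOfLE (Scheme.Hom.preimage_mono qq hWle)).op) t
    rw [Scheme.Hom.map_appLE, Scheme.Hom.appLE_map]
  have hunit : ∀ n : ℕ, IsUnit (algebraMap _ Γ(X, qq ⁻¹ᵁ W) (eB ^ n)) := fun n => by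
    rw [map_pow]
    exact (IsLocalization.Away.algebraMap_isUnit eB).pow n
  constructor
  · refine (injective_iff_map_eq_zero _).2 fun s hs => ?_
    obtain ⟨⟨t, ⟨_, n, rfl⟩⟩, ht⟩ := IsLocalization.surj (Submonoid.powers e) s
    have h0 : algebraMap _ Γ(X, qq ⁻¹ᵁ W) ((toQuot f g p₁ p₂ hp₁ hp₂).appLE W₀ _ le_rfl t) =
        algebraMap Γ(X, qq ⁻¹ᵁ W₀) Γ(X, qq ⁻¹ᵁ W) 0 := by
      rw [← hres, ← ht, map_mul, hs, zero_mul, map_zero]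
    obtain ⟨⟨_, m, rfl⟩, hm⟩ := IsLocalization.exists_of_eq (M := Submonoid.powers eB) h0
    have ht0 : e ^ m * t = 0 := hinj₀ (by
      rw [map_mul, map_pow, map_zero]
      exact hm.trans (mul_zero _))
    refine (IsLocalization.map_units (M := Submonoid.powers e) Γ(quot f g p₁ p₂ hp₁ hp₂, W)
      ⟨e ^ n, n, rfl⟩).mul_left_eq_zero.1 ?_
    refine ht.trans ?_
    refine (IsLocalization.map_units (M := Submonoid.powers e) Γ(quot f g p₁ p₂ hp₁ hp₂, W)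
      ⟨e ^ m, m, rfl⟩).mul_right_eq_zero.1 ?_
    rw [← map_mul, ht0, map_zero]
  · intro b hb
    obtain ⟨n, b₀, hb₀, hbb⟩ := eq_loc eB eC (p₁.appLE _ _ le_rfl).hom (p₂.appLE _ _ hle₂).hom
      (p₁.appLE (qq ⁻¹ᵁ W) (p₁ ⁻¹ᵁ (qq ⁻¹ᵁ W)) le_rfl).hom (p₂.appLE (qq ⁻¹ᵁ W) (p₁ ⁻¹ᵁ (qq ⁻¹ᵁ W)) h₂).hom
      rfl he₂
      (fun c => by
        show (X.presheaf.map _ ≫ p₁.appLE _ _ le_rfl) c = (p₁.appLE _ _ le_rfl ≫ R.presheaf.map _) c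
        rw [Scheme.Hom.map_appLE, Scheme.Hom.appLE_map])
      (fun c => by
        show (X.presheaf.map _ ≫ p₂.appLE _ _ h₂) c = (p₂.appLE _ _ hle₂ ≫ R.presheaf.map _) c
        rw [Scheme.Hom.map_appLE, Scheme.Hom.appLE_map]) b hb
    obtain ⟨t, ht⟩ := hex₀ b₀ hb₀
    refine ⟨IsLocalization.mk' _ t (⟨e ^ n, n, rfl⟩ : Submonoid.powers e), ?_⟩
    refine (hunit n).mul_left_injective ?_
    show _ * _ = _ * _
    rw [hbb, ← ht, ← hres]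
    have h3 : algebraMap _ Γ(X, qq ⁻¹ᵁ W) (eB ^ n) =
        (toQuot f g p₁ p₂ hp₁ hp₂).appLE W (qq ⁻¹ᵁ W) le_rfl (algebraMap Γ(quot f g p₁ p₂ hp₁ hp₂, W₀) _ (e ^ n)) := by
      rw [hres, map_pow ((toQuot f g p₁ p₂ hp₁ hp₂).appLE W₀ _ le_rfl).hom]
    rw [h3, ← map_mul, IsLocalization.mk'_spec]

/-- The pieces of an open of the quotient on which `good_basicOpen` applies. -/
abbrev Piece (W : (quot f g p₁ p₂ hp₁ hp₂).Opens) : Type u :=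
  Σ U : S.affineOpens, { e : Γ(quot f g p₁ p₂ hp₁ hp₂, fromQuot f g p₁ p₂ hp₁ hp₂ ⁻¹ᵁ U.1) //
    (quot f g p₁ p₂ hp₁ hp₂).basicOpen e ≤ W }

/-- The open of a piece. -/
abbrev Piece.D {W : (quot f g p₁ p₂ hp₁ hp₂).Opens} (i : Piece f g p₁ p₂ hp₁ hp₂ W) :
    (quot f g p₁ p₂ hp₁ hp₂).Opens :=
  (quot f g p₁ p₂ hp₁ hp₂).basicOpen i.2.1

theorem le_iSup_pieces (W : (quot f g p₁ p₂ hp₁ hp₂).Opens) :
    W ≤ ⨆ i : Piece f g p₁ p₂ hp₁ hp₂ W, i.D := by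
  intro y hy
  obtain ⟨_, ⟨U₀, hU₀, rfl⟩, hyU, -⟩ := S.isBasis_affineOpens.exists_subset_of_mem_open
    (Set.mem_univ (fromQuot f g p₁ p₂ hp₁ hp₂ y)) isOpen_univ
  obtain ⟨e, he, hye⟩ := (isAffineOpen_preimage_quot f g p₁ p₂ hp₁ hp₂ ⟨U₀, hU₀⟩).exists_basicOpen_le
    (⟨y, hy⟩ : W) hyU
  exact Opens.mem_iSup.2 ⟨⟨⟨U₀, hU₀⟩, e, he⟩, hye⟩

theorem le_preimage₂ (hw : p₁ ≫ toQuot f g p₁ p₂ hp₁ hp₂ = p₂ ≫ toQuot f g p₁ p₂ hp₁ hp₂)
    (W : (quot f g p₁ p₂ hp₁ hp₂).Opens) :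
    p₁ ⁻¹ᵁ (toQuot f g p₁ p₂ hp₁ hp₂ ⁻¹ᵁ W) ≤ p₂ ⁻¹ᵁ (toQuot f g p₁ p₂ hp₁ hp₂ ⁻¹ᵁ W) := by
  rw [← Scheme.Hom.comp_preimage, hw, Scheme.Hom.comp_preimage]

theorem injective_all (hw : p₁ ≫ toQuot f g p₁ p₂ hp₁ hp₂ = p₂ ≫ toQuot f g p₁ p₂ hp₁ hp₂)
    (W : (quot f g p₁ p₂ hp₁ hp₂).Opens) :
    Function.Injective ((toQuot f g p₁ p₂ hp₁ hp₂).appLE W (toQuot f g p₁ p₂ hp₁ hp₂ ⁻¹ᵁ W) le_rfl) := by
  intro s t hst
  refine (quot f g p₁ p₂ hp₁ hp₂).sheaf.eq_of_locally_eq' (fun i : Piece f g p₁ p₂ hp₁ hp₂ W => i.D) W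
    (fun i => homOfLE i.2.2) (le_iSup_pieces f g p₁ p₂ hp₁ hp₂ W) s t fun i => ?_
  have hinj := (good_basicOpen f g p₁ p₂ hp₁ hp₂ hw i.1 i.2.1 _ rfl _ rfl
    (le_preimage₂ f g p₁ p₂ hp₁ hp₂ hw _)).1
  refine hinj ?_
  show ((quot f g p₁ p₂ hp₁ hp₂).presheaf.map (homOfLE i.2.2).op ≫ (toQuot f g p₁ p₂ hp₁ hp₂).appLE i.D _ le_rfl) s =
    ((quot f g p₁ p₂ hp₁ hp₂).presheaf.map (homOfLE i.2.2).op ≫ (toQuot f g p₁ p₂ hp₁ hp₂).appLE i.D _ le_rfl) t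
  rw [Scheme.Hom.map_appLE, ← Scheme.Hom.appLE_map (toQuot f g p₁ p₂ hp₁ hp₂) (le_refl _)
    (homOfLE (Scheme.Hom.preimage_mono (toQuot f g p₁ p₂ hp₁ hp₂) i.2.2)).op]
  exact congrArg (X.presheaf.map _) hst

theorem exists_all (hw : p₁ ≫ toQuot f g p₁ p₂ hp₁ hp₂ = p₂ ≫ toQuot f g p₁ p₂ hp₁ hp₂)
    (W : (quot f g p₁ p₂ hp₁ hp₂).Opens) (b : Γ(X, toQuot f g p₁ p₂ hp₁ hp₂ ⁻¹ᵁ W))
    (hb : p₁.appLE _ _ le_rfl b = p₂.appLE _ (p₁ ⁻¹ᵁ (toQuot f g p₁ p₂ hp₁ hp₂ ⁻¹ᵁ W))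
      (le_preimage₂ f g p₁ p₂ hp₁ hp₂ hw W) b) :
    ∃ s, (toQuot f g p₁ p₂ hp₁ hp₂).appLE W _ le_rfl s = b := by
  let q := toQuot f g p₁ p₂ hp₁ hp₂
  have hex : ∀ i : Piece f g p₁ p₂ hp₁ hp₂ W, ∃ s, q.appLE i.D (q ⁻¹ᵁ i.D) le_rfl s =
      X.presheaf.map (homOfLE (Scheme.Hom.preimage_mono q i.2.2)).op b := fun i => by
    refine (good_basicOpen f g p₁ p₂ hp₁ hp₂ hw i.1 i.2.1 _ rfl _ rfl
      (le_preimage₂ f g p₁ p₂ hp₁ hp₂ hw _)).2 _ ?_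
    have h := congrArg (R.presheaf.map
      (homOfLE (p₁.preimage_mono (Scheme.Hom.preimage_mono q i.2.2))).op) hb
    rw [← ConcreteCategory.comp_apply, ← ConcreteCategory.comp_apply, Scheme.Hom.appLE_map,
      Scheme.Hom.appLE_map] at h
    rw [← ConcreteCategory.comp_apply, ← ConcreteCategory.comp_apply, Scheme.Hom.map_appLE,
      Scheme.Hom.map_appLE]
    exact h
  choose sec hsec using hex
  obtain ⟨s, hs, -⟩ := (quot f g p₁ p₂ hp₁ hp₂).sheaf.existsUnique_gluing'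
    (fun i : Piece f g p₁ p₂ hp₁ hp₂ W => i.D) W (fun i => homOfLE i.2.2)
    (le_iSup_pieces f g p₁ p₂ hp₁ hp₂ W) sec fun i j => by
      refine injective_all f g p₁ p₂ hp₁ hp₂ hw (i.D ⊓ j.D) ?_
      show ((quot f g p₁ p₂ hp₁ hp₂).presheaf.map (homOfLE inf_le_left).op ≫ q.appLE _ _ le_rfl) (sec i) =
        ((quot f g p₁ p₂ hp₁ hp₂).presheaf.map (homOfLE inf_le_right).op ≫ q.appLE _ _ le_rfl) (sec j)
      rw [Scheme.Hom.map_appLE, Scheme.Hom.map_appLE,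
        ← Scheme.Hom.appLE_map q (le_refl (q ⁻¹ᵁ i.D)) (homOfLE (Scheme.Hom.preimage_mono q inf_le_left)).op,
        ← Scheme.Hom.appLE_map q (le_refl (q ⁻¹ᵁ j.D)) (homOfLE (Scheme.Hom.preimage_mono q inf_le_right)).op,
        ConcreteCategory.comp_apply, ConcreteCategory.comp_apply, hsec i, hsec j,
        ← ConcreteCategory.comp_apply, ← ConcreteCategory.comp_apply, ← X.presheaf.map_comp,
        ← X.presheaf.map_comp]
      rfl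
  refine ⟨s, X.sheaf.eq_of_locally_eq' (fun i : Piece f g p₁ p₂ hp₁ hp₂ W => q ⁻¹ᵁ i.D) _
    (fun i => homOfLE (Scheme.Hom.preimage_mono q i.2.2)) ?_ _ b fun i => ?_⟩
  · intro x hx
    obtain ⟨i, hi⟩ := Opens.mem_iSup.1 (le_iSup_pieces f g p₁ p₂ hp₁ hp₂ W (show q x ∈ W from hx))
    exact Opens.mem_iSup.2 ⟨i, hi⟩
  · show (q.appLE W _ le_rfl ≫ X.presheaf.map _) s = X.presheaf.map _ b
    rw [Scheme.Hom.appLE_map, ← Scheme.Hom.map_appLE q (le_refl (q ⁻¹ᵁ i.D)) (homOfLE i.2.2).op,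
      ConcreteCategory.comp_apply, ← hsec i]
    exact congrArg _ (hs i)

/-- A ring map factors through an injective one as soon as every value does. -/
theorem exists_lift {A B C : CommRingCat.{u}} (ψ : B ⟶ C) (hψ : Function.Injective ψ) (φ : A ⟶ C)
    (h : ∀ a, ∃ b, ψ b = φ a) : ∃ c : A ⟶ B, c ≫ ψ = φ := by
  choose c hc using h
  refine ⟨CommRingCat.ofHom
    { toFun := c
      map_one' := hψ (by rw [hc, map_one, map_one])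
      map_zero' := hψ (by rw [hc, map_zero, map_zero])
      map_mul' := fun a a' => hψ (by rw [hc, map_mul, map_mul, hc, hc])
      map_add' := fun a a' => hψ (by rw [hc, map_add, map_add, hc, hc]) }, ?_⟩
  ext a
  exact hc a

local notation "fRS" => Scheme.forgetToLocallyRingedSpace ⋙ LocallyRingedSpace.forgetToSheafedSpace

/-- The quotient is the coequalizer in ringed spaces. -/
theorem isColimit_cofork (hfin : ∀ s : S, (f ⁻¹' {s}).Finite)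
    (heqv : Equivalence (fun x x' : X => ∃ r : R, p₁ r = x ∧ p₂ r = x'))
    (w : (fRS).map p₁ ≫ (fRS).map (toQuot f g p₁ p₂ hp₁ hp₂) =
      (fRS).map p₂ ≫ (fRS).map (toQuot f g p₁ p₂ hp₁ hp₂)) :
    Nonempty (IsColimit (Cofork.ofπ ((fRS).map (toQuot f g p₁ p₂ hp₁ hp₂)) w)) := by
  let Y := quot f g p₁ p₂ hp₁ hp₂
  let q := toQuot f g p₁ p₂ hp₁ hp₂
  have hw := p_toQuot f g p₁ p₂ hp₁ hp₂
  have hqs : Function.Surjective (q : X → Y) := surjective_toQuot f g p₁ p₂ hp₁ hp₂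
  have hsec : ∀ (W : Y.Opens) {A : CommRingCat.{u}} (c₁ c₂ : A ⟶ Γ(Y, W)),
      c₁ ≫ q.app W = c₂ ≫ q.app W → c₁ = c₂ := fun W A c₁ c₂ h => by
    ext a
    apply injective_all f g p₁ p₂ hp₁ hp₂ hw W
    rw [← Scheme.Hom.app_eq_appLE]
    exact congr($h a)
  -- uniqueness
  have huniq : ∀ {G : SheafedSpace CommRingCat.{u}} (m₁ m₂ : (fRS).obj Y ⟶ G),
      (fRS).map q ≫ m₁ = (fRS).map q ≫ m₂ → m₁ = m₂ := by
    intro G m₁ m₂ hA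
    obtain ⟨⟨f₁, c₁⟩⟩ := m₁
    obtain ⟨⟨f₂, c₂⟩⟩ := m₂
    obtain rfl : f₁ = f₂ := by
      refine TopCat.hom_ext (ContinuousMap.ext fun y => ?_)
      obtain ⟨x, rfl⟩ := hqs y
      exact congrArg (fun m : (fRS).obj X ⟶ G => m.hom.base x) hA
    suffices c₁ = c₂ by subst this; rfl
    refine NatTrans.ext (funext fun O => ?_)
    obtain ⟨O⟩ := O
    refine hsec ((Opens.map f₁).obj O) _ _ ?_
    exact (SheafedSpace.congr_hom_app hA (op O)).trans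
      ((congrArg (_ ≫ ·) (CategoryTheory.Functor.map_id _ _)).trans (Category.comp_id _))
  -- existence
  have hex : ∀ {G : SheafedSpace CommRingCat.{u}} (u : (fRS).obj X ⟶ G),
      (fRS).map p₁ ≫ u = (fRS).map p₂ ≫ u → ∃ m, (fRS).map q ≫ m = u := by
    intro G u huv
    let m₀ : Y → (G : TopCat) := fun y => u.hom.base (Function.surjInv hqs y)
    have hm : ∀ x : X, m₀ (q x) = u.hom.base x := fun x => by
      obtain ⟨r, h₁, h₂⟩ := rel_of_toQuot_eq f g p₁ p₂ hp₁ hp₂ hfin heqv (Function.surjInv_eq hqs (q x))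
      show u.hom.base (Function.surjInv hqs (q x)) = _
      rw [← h₁, ← h₂]
      exact congrArg (fun m : (fRS).obj R ⟶ G => m.hom.base r) huv
    have hcont : Continuous m₀ := by
      refine continuous_iff_isClosed.mpr fun C hC => ?_
      have hC' : IsClosed (u.hom.base ⁻¹' C : Set X) := hC.preimage u.hom.base.hom.continuous
      rw [show m₀ ⁻¹' C = q '' (u.hom.base ⁻¹' C) from Set.ext fun y => ⟨fun hy =>
        ⟨Function.surjInv hqs y, hy, Function.surjInv_eq hqs y⟩, by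
          rintro ⟨x, hx, rfl⟩
          show m₀ (q x) ∈ C
          rw [hm]; exact hx⟩]
      exact q.isClosedMap _ hC'
    let f₀ : (Y : TopCat) ⟶ (G : TopCat) := TopCat.ofHom ⟨m₀, hcont⟩
    have hXo : ∀ O : Opens (G : TopCat), (Opens.map u.hom.base).obj O = q ⁻¹ᵁ ((Opens.map f₀).obj O) :=
      fun O => Opens.ext (Set.ext fun x => by
        show u.hom.base x ∈ O ↔ m₀ (q x) ∈ O
        rw [hm])
    let φ : ∀ O : (Opens (G : TopCat))ᵒᵖ,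
        G.presheaf.obj O ⟶ Γ(X, q ⁻¹ᵁ ((Opens.map f₀).obj O.unop)) := fun O =>
      u.hom.c.app O ≫ X.presheaf.map (eqToHom (hXo O.unop).symm).op
    have hφ : ∀ O, ∃ c : G.presheaf.obj O ⟶ Γ(Y, (Opens.map f₀).obj O.unop),
        c ≫ q.app _ = φ O := by
      intro O
      obtain ⟨O⟩ := O
      let W : Y.Opens := (Opens.map f₀).obj O
      let V₀ : X.Opens := (Opens.map u.hom.base).obj O
      have hV₀ : V₀ = q ⁻¹ᵁ W := hXo O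
      have h2 : p₁ ⁻¹ᵁ (q ⁻¹ᵁ W) ≤ p₂ ⁻¹ᵁ V₀ := hV₀.symm ▸ le_preimage₂ f g p₁ p₂ hp₁ hp₂ hw W
      have key : u.hom.c.app (op O) ≫ p₁.appLE V₀ (p₁ ⁻¹ᵁ (q ⁻¹ᵁ W)) (by rw [hV₀]) =
          u.hom.c.app (op O) ≫ p₂.appLE V₀ (p₁ ⁻¹ᵁ (q ⁻¹ᵁ W)) h2 := by
        have := SheafedSpace.congr_hom_app huv (op O)
        rw [SheafedSpace.comp_hom_c_app', SheafedSpace.comp_hom_c_app', Category.assoc] at this
        have hle : p₁ ⁻¹ᵁ (q ⁻¹ᵁ W) ≤ p₁ ⁻¹ᵁ V₀ := by rw [hV₀]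
        refine Eq.trans (Category.assoc _ _ _).symm ?_
        refine (congrArg (· ≫ R.presheaf.map (homOfLE hle).op) this).trans ?_
        simp only [Category.assoc]
        refine congrArg (u.hom.c.app (op O) ≫ ·) ?_
        exact congrArg (p₂.app V₀ ≫ ·) ((R.presheaf.map_comp _ _).symm.trans
          (congrArg R.presheaf.map (Quiver.Hom.unop_inj (Subsingleton.elim _ _))))
      have hinj : Function.Injective (q.app W) := by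
        rw [Scheme.Hom.app_eq_appLE]; exact injective_all f g p₁ p₂ hp₁ hp₂ hw W
      refine exists_lift (q.app W) hinj (φ (op O)) fun a => ?_
      rw [Scheme.Hom.app_eq_appLE]
      refine exists_all f g p₁ p₂ hp₁ hp₂ hw W _ ?_
      show (X.presheaf.map _ ≫ p₁.appLE _ _ le_rfl) (u.hom.c.app (op O) a) =
        (X.presheaf.map _ ≫ p₂.appLE _ _ _) (u.hom.c.app (op O) a)
      rw [Scheme.Hom.map_appLE, Scheme.Hom.map_appLE]
      exact congr($key a)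
    choose c hc using hφ
    let c' : G.presheaf ⟶ f₀ _* Y.presheaf :=
      { app := c
        naturality := fun O O' r => hsec _ _ _ (by
          erw [Category.assoc, hc, Category.assoc, q.naturality, reassoc_of% (hc O)]
          simp only [φ, Category.assoc]
          erw [u.hom.c.naturality_assoc]
          exact congrArg (u.hom.c.app O ≫ ·)
            ((X.presheaf.map_comp _ _).symm.trans
              ((congrArg X.presheaf.map (Quiver.Hom.unop_inj (Subsingleton.elim _ _))).trans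
                (X.presheaf.map_comp _ _)))) }
    let m : (fRS).obj Y ⟶ G := InducedCategory.homMk ⟨f₀, c'⟩
    refine ⟨m, ?_⟩
    refine InducedCategory.hom_ext (PresheafedSpace.ext _ _ ?_ ?_)
    · exact TopCat.hom_ext (ContinuousMap.ext hm)
    · refine NatTrans.ext (funext fun O => ?_)
      obtain ⟨O⟩ := O
      change (c (op O) ≫ q.app _) ≫ X.presheaf.map _ = _
      erw [hc]
      simp only [φ]
      erw [Category.assoc, ← X.presheaf.map_comp]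
      exact (congrArg (_ ≫ ·) (X.presheaf.map_id _)).trans (Category.comp_id _)
  exact ⟨Cofork.IsColimit.mk _ (fun s => (hex _ s.condition).choose)
    (fun s => (hex _ s.condition).choose_spec)
    (fun s m h => huniq m _ (h.trans (hex _ s.condition).choose_spec.symm))⟩

end Groth.Agent.IntQuot25

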