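import Groth.Agent.IntQuot25.Algebra
import Mathlib.AlgebraicGeometry.Sites.SmallAffineZariski
import Mathlib.AlgebraicGeometry.Morphisms.Integral
import Mathlib.Tactic.DepRewrite

/-!
# The relative spectrum of the equalizer of two integral algebras
-/

set_option autoImplicit false
set_option backward.isDefEq.respectTransparency.types false
set_option backward.isDefEq.respectTransparency false
set_option maxHeartbeats 1000000

noncomputable section

open CategoryTheory Limits AlgebraicGeometry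
open AlgebraicGeometry.Scheme AlgebraicGeometry.Scheme.AffineZariskiSite

universe u

namespace Groth.Agent.IntQuot25

/-- A subring of the elements equalized by two maps to localisations is the localisation of the equalizer. -/
theorem eq_loc {B B' C C' : Type u} [CommRing B] [CommRing B'] [CommRing C] [CommRing C'] [Algebra B B']
    [Algebra C C'] (e : B) (ec : C) [IsLocalization.Away e B'] [IsLocalization.Away ec C']
    (φ₁ φ₂ : B →+* C) (ψ₁ ψ₂ : B' →+* C') (he₁ : φ₁ e = ec) (he₂ : φ₂ e = ec)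
    (h₁ : ∀ b, ψ₁ (algebraMap B B' b) = algebraMap C C' (φ₁ b))
    (h₂ : ∀ b, ψ₂ (algebraMap B B' b) = algebraMap C C' (φ₂ b)) (x : B') (hx : ψ₁ x = ψ₂ x) :
    ∃ (n : ℕ) (b : B), φ₁ b = φ₂ b ∧ x * algebraMap B B' (e ^ n) = algebraMap B B' b := by
  obtain ⟨⟨b, ⟨_, ⟨n, rfl⟩⟩⟩, hb⟩ := IsLocalization.surj (Submonoid.powers e) x
  have h : algebraMap C C' (φ₁ b) = algebraMap C C' (φ₂ b) := by
    rw [← h₁, ← h₂, ← hb, map_mul, map_mul, h₁, h₂, hx, map_pow, map_pow, map_pow, map_pow, he₁, he₂]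
  obtain ⟨⟨_, ⟨m, rfl⟩⟩, hm⟩ := IsLocalization.exists_of_eq (M := Submonoid.powers ec) h
  refine ⟨n + m, e ^ m * b, ?_, ?_⟩
  · rw [map_mul, map_mul, map_pow, map_pow, he₁, he₂]
    exact hm
  · rw [map_mul, ← hb, pow_add, map_mul]
    simp only
    ring

variable {S X R : Scheme.{u}} (f : X ⟶ S) (g : R ⟶ S) (p₁ p₂ : R ⟶ X) (hp₁ : p₁ ≫ f = g) (hp₂ : p₂ ≫ f = g)

include hp₁ in
theorem le_preimage (U : S.Opens) : g ⁻¹ᵁ U ≤ p₁ ⁻¹ᵁ (f ⁻¹ᵁ U) := by
  rw [← Scheme.Hom.comp_preimage, hp₁]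

/-- Pullback of sections along `pᵢ` over an open of the base. -/
abbrev secMap (p : R ⟶ X) (hp : p ≫ f = g) (U : S.Opens) : Γ(X, f ⁻¹ᵁ U) ⟶ Γ(R, g ⁻¹ᵁ U) :=
  p.appLE _ _ (le_preimage f g p hp U)

theorem secMap_map (p : R ⟶ X) (hp : p ≫ f = g) {U V : S.Opens} (i : U ≤ V) (x : Γ(X, f ⁻¹ᵁ V)) :
    secMap f g p hp U (X.presheaf.map (homOfLE (f.preimage_mono i)).op x) =
      R.presheaf.map (homOfLE (g.preimage_mono i)).op (secMap f g p hp V x) := by
  rw [← ConcreteCategory.comp_apply, ← ConcreteCategory.comp_apply, Scheme.Hom.map_appLE, Scheme.Hom.appLE_map]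

theorem secMap_app (p : R ⟶ X) (hp : p ≫ f = g) (U : S.Opens) (a : Γ(S, U)) :
    secMap f g p hp U (f.app U a) = g.app U a := by
  subst hp
  rw [← ConcreteCategory.comp_apply]
  congr 2
  rw [secMap, Scheme.Hom.app_eq_appLE, Scheme.Hom.appLE_comp_appLE, Scheme.Hom.app_eq_appLE]

/-- The sections equalized by the two maps. -/
abbrev eqRing (U : S.Opens) : Subring Γ(X, f ⁻¹ᵁ U) :=
  (secMap f g p₁ hp₁ U).hom.eqLocus (secMap f g p₂ hp₂ U).hom

/-- The presheaf of equalized sections. -/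
def eqDiagram : S.Opensᵒᵖ ⥤ CommRingCat.{u} where
  obj U := .of (eqRing f g p₁ p₂ hp₁ hp₂ U.unop)
  map {V U} i :=
    CommRingCat.ofHom ((X.presheaf.map (homOfLE (f.preimage_mono i.unop.le)).op).hom.restrict
      _ _ fun x hx => by
        show secMap f g p₁ hp₁ U.unop _ = secMap f g p₂ hp₂ U.unop _
        rw [secMap_map f g p₁ hp₁ i.unop.le, secMap_map f g p₂ hp₂ i.unop.le]
        exact congrArg _ hx)
  map_id U := by simp; rfl
  map_comp i j := by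
    simp only [← CommRingCat.ofHom_comp]
    rw [← homOfLE_comp (f.preimage_mono j.unop.le) (f.preimage_mono i.unop.le), op_comp]
    simp_rw [X.presheaf.map_comp]
    rfl

/-- The structure map of the presheaf of equalized sections. -/
def eqDiagramMap : S.presheaf ⟶ eqDiagram f g p₁ p₂ hp₁ hp₂ where
  app U := CommRingCat.ofHom ((f.app U.unop).hom.codRestrict _ fun a =>
    (secMap_app f g p₁ hp₁ U.unop a).trans (secMap_app f g p₂ hp₂ U.unop a).symm)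
  naturality {U V} i := by ext x; exact Subtype.ext congr($(f.naturality i) x)

variable [IsIntegralHom f] [IsIntegralHom g]

theorem coequifibered_eqDiagramMap :
    ((toOpensFunctor S).op.whiskerLeft (eqDiagramMap f g p₁ p₂ hp₁ hp₂)).Coequifibered := by
  refine coequifibered_iff_forall_isLocalizationAway.mpr fun U r => ?_
  have hV : S.basicOpen r ≤ U.1 := S.basicOpen_le r
  let eB : Γ(X, f ⁻¹ᵁ U.1) := f.app U.1 r
  let eC : Γ(R, g ⁻¹ᵁ U.1) := g.app U.1 r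
  letI : Algebra Γ(X, f ⁻¹ᵁ U.1) Γ(X, f ⁻¹ᵁ S.basicOpen r) :=
    (X.presheaf.map (homOfLE (f.preimage_mono hV)).op).hom.toAlgebra
  letI : Algebra Γ(R, g ⁻¹ᵁ U.1) Γ(R, g ⁻¹ᵁ S.basicOpen r) :=
    (R.presheaf.map (homOfLE (g.preimage_mono hV)).op).hom.toAlgebra
  haveI : IsLocalization.Away eB Γ(X, f ⁻¹ᵁ S.basicOpen r) :=
    (U.2.preimage f).isLocalization_of_eq_basicOpen eB _ (f.preimage_basicOpen r)
  haveI : IsLocalization.Away eC Γ(R, g ⁻¹ᵁ S.basicOpen r) :=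
    (U.2.preimage g).isLocalization_of_eq_basicOpen eC _ (g.preimage_basicOpen r)
  let E := eqRing f g p₁ p₂ hp₁ hp₂ U.1
  let E' := eqRing f g p₁ p₂ hp₁ hp₂ (S.basicOpen r)
  let res : E →+* E' := ((eqDiagram f g p₁ p₂ hp₁ hp₂).map (homOfLE hV).op).hom
  letI : Algebra E E' := res.toAlgebra
  let eE : E := ((eqDiagramMap f g p₁ p₂ hp₁ hp₂).app (.op U.1)).hom r
  change IsLocalization.Away eE E'
  have hres : ∀ x : E, ((algebraMap E E' x : E') : Γ(X, f ⁻¹ᵁ S.basicOpen r)) = algebraMap _ _ (x : Γ(X, f ⁻¹ᵁ U.1)) :=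
    fun _ => rfl
  refine ⟨?_, ?_, ?_⟩
  · rintro ⟨_, n, rfl⟩
    simp only [map_pow]
    refine IsUnit.pow n ?_
    obtain ⟨w, hw⟩ := isUnit_iff_exists_inv.1 (IsLocalization.Away.algebraMap_isUnit (S := Γ(X, f ⁻¹ᵁ S.basicOpen r)) eB)
    have hmem : w ∈ E' := by
      have h₁ := congrArg (secMap f g p₁ hp₁ (S.basicOpen r)).hom hw
      have h₂ := congrArg (secMap f g p₂ hp₂ (S.basicOpen r)).hom hw
      rw [map_mul, map_one] at h₁ h₂
      have he : (secMap f g p₁ hp₁ (S.basicOpen r)).hom (algebraMap _ _ eB) =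
          (secMap f g p₂ hp₂ (S.basicOpen r)).hom (algebraMap _ _ eB) := (algebraMap E E' eE).2
      show (secMap f g p₁ hp₁ (S.basicOpen r)).hom w = (secMap f g p₂ hp₂ (S.basicOpen r)).hom w
      rw [← he] at h₂
      exact (left_inv_eq_right_inv (by rw [mul_comm]; exact h₁) h₂)
    exact isUnit_iff_exists_inv.2 ⟨⟨w, hmem⟩, Subtype.ext hw⟩
  · intro x
    obtain ⟨n, b, hb, hxb⟩ := eq_loc eB eC (secMap f g p₁ hp₁ U.1).hom (secMap f g p₂ hp₂ U.1).hom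
      (secMap f g p₁ hp₁ (S.basicOpen r)).hom (secMap f g p₂ hp₂ (S.basicOpen r)).hom
      (secMap_app f g p₁ hp₁ U.1 r) (secMap_app f g p₂ hp₂ U.1 r)
      (fun b => secMap_map f g p₁ hp₁ hV b) (fun b => secMap_map f g p₂ hp₂ hV b) x.1 x.2
    refine ⟨⟨⟨b, hb⟩, ⟨eE ^ n, n, rfl⟩⟩, Subtype.ext ?_⟩
    show x.1 * ((algebraMap E E' (eE ^ n) : E') : Γ(X, f ⁻¹ᵁ S.basicOpen r)) = _
    rw [hres, hres]
    exact hxb
  · intro x y h
    have h' : algebraMap Γ(X, f ⁻¹ᵁ U.1) Γ(X, f ⁻¹ᵁ S.basicOpen r) x.1 = algebraMap _ _ y.1 :=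
      congrArg Subtype.val h
    obtain ⟨⟨_, m, rfl⟩, hm⟩ := IsLocalization.exists_of_eq (M := Submonoid.powers eB) h'
    exact ⟨⟨eE ^ m, m, rfl⟩, Subtype.ext hm⟩

/-- The gluing data. -/
def eqGlueData := relativeGluingData (coequifibered_eqDiagramMap f g p₁ p₂ hp₁ hp₂)

instance : ((eqGlueData f g p₁ p₂ hp₁ hp₂).functor ⋙ Scheme.forget).IsLocallyDirected :=
  Cover.RelativeGluingData.instIsLocallyDirectedI₀CompFunctorForgetOfIsThin ..

/-- The quotient. -/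
def quot : Scheme.{u} := (eqGlueData f g p₁ p₂ hp₁ hp₂).glued

/-- Its cover by spectra. -/
def quotCover : (quot f g p₁ p₂ hp₁ hp₂).OpenCover := (eqGlueData f g p₁ p₂ hp₁ hp₂).cover

/-- The inclusion of the equalized sections. -/
abbrev eqVal (U : S.Opens) : CommRingCat.of (eqRing f g p₁ p₂ hp₁ hp₂ U) ⟶ Γ(X, f ⁻¹ᵁ U) :=
  CommRingCat.ofHom (eqRing f g p₁ p₂ hp₁ hp₂ U).subtype

set_option backward.defeqAttrib.useBackward true in
/-- The quotient map. -/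
def toQuot : X ⟶ quot f g p₁ p₂ hp₁ hp₂ :=
  Scheme.OpenCover.glueMorphismsOfLocallyDirected
    ((directedCover S).pullback₁ f)
    (fun U => (pullbackRestrictIsoRestrict f _).hom ≫
      (f ⁻¹ᵁ U.1).toSpecΓ ≫ Spec.map (eqVal f g p₁ p₂ hp₁ hp₂ U.1) ≫ (quotCover f g p₁ p₂ hp₁ hp₂).f U)
    fun {U V : S.AffineZariskiSite} i => by
  have : (pullbackRestrictIsoRestrict f U.1).inv ≫
      Cover.trans ((directedCover S).pullback₁ f) i ≫
      (pullbackRestrictIsoRestrict f V.1).hom = X.homOfLE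
        (f.preimage_mono (toOpens_mono i.1.1)) := by
    rw [← cancel_mono (Scheme.Opens.ι _)]
    simp +instances [Cover.trans, Cover.locallyDirectedPullbackCover]
  rw [← Iso.inv_comp_eq, reassoc_of% this, ← Scheme.Opens.toSpecΓ_SpecMap_presheaf_map_assoc,
    ← Spec.map_comp_assoc]
  dsimp [quotCover]
  rw [← colimit.w (eqGlueData f g p₁ p₂ hp₁ hp₂).functor i]
  dsimp [eqGlueData, relativeGluingData]
  rw [← Spec.map_comp_assoc]
  rfl

set_option backward.defeqAttrib.useBackward true in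
@[reassoc]
theorem ι_toQuot (U : S.affineOpens) :
    (f ⁻¹ᵁ U.1).ι ≫ toQuot f g p₁ p₂ hp₁ hp₂ = (f ⁻¹ᵁ U.1).toSpecΓ ≫
      Spec.map (eqVal f g p₁ p₂ hp₁ hp₂ U.1) ≫ (quotCover f g p₁ p₂ hp₁ hp₂).f U := by
  rw [← cancel_epi (pullbackRestrictIsoRestrict f U.1).hom, ← Category.assoc]
  trans ((directedCover S).pullback₁ f).f U ≫ toQuot f g p₁ p₂ hp₁ hp₂
  · congr 1; simp
  delta toQuot
  generalize_proofs _ _ _ _ H
  exact Scheme.OpenCover.map_glueMorphismsOfLocallyDirected _ _ H _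

theorem fromSpec_toQuot (U : S.affineOpens) :
    (U.2.preimage f).fromSpec ≫ toQuot f g p₁ p₂ hp₁ hp₂ =
      Spec.map (eqVal f g p₁ p₂ hp₁ hp₂ U.1) ≫ (quotCover f g p₁ p₂ hp₁ hp₂).f U := by
  show ((U.2.preimage f).isoSpec.inv ≫ (f ⁻¹ᵁ U.1).ι) ≫ _ = _
  rw [Category.assoc, ι_toQuot, IsAffineOpen.isoSpec_inv_toSpecΓ_assoc]

/-- The structure map of the quotient. -/
def fromQuot : quot f g p₁ p₂ hp₁ hp₂ ⟶ S := (eqGlueData f g p₁ p₂ hp₁ hp₂).toBase

@[reassoc]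
theorem ι_fromQuot (U : S.affineOpens) :
    (quotCover f g p₁ p₂ hp₁ hp₂).f U ≫ fromQuot f g p₁ p₂ hp₁ hp₂ =
      Spec.map ((eqDiagramMap f g p₁ p₂ hp₁ hp₂).app (.op U.1)) ≫ U.2.fromSpec :=
  colimit.ι_desc _ _

theorem fromQuot_preimage (U : S.affineOpens) :
    fromQuot f g p₁ p₂ hp₁ hp₂ ⁻¹ᵁ U = ((quotCover f g p₁ p₂ hp₁ hp₂).f U).opensRange := by
  simpa using! (eqGlueData f g p₁ p₂ hp₁ hp₂).toBase_preimage_eq_opensRange_ι U

@[reassoc]
theorem toQuot_fromQuot : toQuot f g p₁ p₂ hp₁ hp₂ ≫ fromQuot f g p₁ p₂ hp₁ hp₂ = f := by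
  refine Scheme.Cover.hom_ext (X.openCoverOfIsOpenCover _
    (.comap (iSup_affineOpens_eq_top S) f.base.1)) _ _ fun U => ?_
  refine (ι_toQuot_assoc f g p₁ p₂ hp₁ hp₂ _ _).trans ?_
  rw [ι_fromQuot, ← Spec.map_comp_assoc]
  change (f ⁻¹ᵁ U.1).toSpecΓ ≫ Spec.map (f.app _) ≫ U.2.fromSpec = (f ⁻¹ᵁ U.1).ι ≫ _
  simp

instance isIntegralHom_fromQuot : IsIntegralHom (fromQuot f g p₁ p₂ hp₁ hp₂) := by
  rw [IsZariskiLocalAtTarget.iff_of_iSup_eq_top (P := @IsIntegralHom) _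
    (iSup_affineOpens_eq_top _)]
  intro U
  let h := fromQuot f g p₁ p₂ hp₁ hp₂
  let c := quotCover f g p₁ p₂ hp₁ hp₂
  let e := IsOpenImmersion.isoOfRangeEq (h ⁻¹ᵁ U).ι (c.f U)
      (by simpa using congr($(fromQuot_preimage f g p₁ p₂ hp₁ hp₂ U).1))
  rw [← MorphismProperty.cancel_left_of_respectsIso @IsIntegralHom e.inv,
    ← MorphismProperty.cancel_right_of_respectsIso @IsIntegralHom _ U.2.isoSpec.hom]
  have : ((eqDiagramMap f g p₁ p₂ hp₁ hp₂).app (.op U.1)).hom.IsIntegral := fun x => by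
    obtain ⟨q, hq, hqx⟩ := Scheme.Hom.isIntegral_app f U.1 U.2 x.1
    refine ⟨q, hq, Subtype.ext ?_⟩
    exact (Polynomial.hom_eval₂ q _ (eqRing f g p₁ p₂ hp₁ hp₂ U.1).subtype x).trans hqx
  convert! IsIntegralHom.SpecMap_iff.mpr this
  rw [← cancel_mono U.2.fromSpec]
  simp [IsAffineOpen.isoSpec_hom, e, h, c, ι_fromQuot]

instance isIntegralHom_toQuot : IsIntegralHom (toQuot f g p₁ p₂ hp₁ hp₂) := by
  haveI : IsIntegralHom (toQuot f g p₁ p₂ hp₁ hp₂ ≫ fromQuot f g p₁ p₂ hp₁ hp₂) := by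
    rw [toQuot_fromQuot]; infer_instance
  exact IsIntegralHom.of_comp _ (fromQuot f g p₁ p₂ hp₁ hp₂)

theorem fromSpec_p (p : R ⟶ X) (hp : p ≫ f = g) (U : S.affineOpens) :
    (U.2.preimage g).fromSpec ≫ p = Spec.map (secMap f g p hp U.1) ≫ (U.2.preimage f).fromSpec :=
  ((U.2.preimage f).SpecMap_appLE_fromSpec p (U.2.preimage g) _).symm

theorem p_toQuot : p₁ ≫ toQuot f g p₁ p₂ hp₁ hp₂ = p₂ ≫ toQuot f g p₁ p₂ hp₁ hp₂ := by
  refine Scheme.Cover.hom_ext (R.openCoverOfIsOpenCover _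
    (.comap (iSup_affineOpens_eq_top S) g.base.1)) _ _ fun U => ?_
  show (g ⁻¹ᵁ U.1).ι ≫ p₁ ≫ _ = (g ⁻¹ᵁ U.1).ι ≫ p₂ ≫ _
  rw [← cancel_epi (U.2.preimage g).isoSpec.inv, ← Category.assoc, ← Category.assoc (U.2.preimage g).isoSpec.inv]
  show (U.2.preimage g).fromSpec ≫ p₁ ≫ _ = (U.2.preimage g).fromSpec ≫ p₂ ≫ _
  rw [← Category.assoc, ← Category.assoc, fromSpec_p f g p₁ hp₁, fromSpec_p f g p₂ hp₂, Category.assoc,
    Category.assoc, fromSpec_toQuot, ← Spec.map_comp_assoc, ← Spec.map_comp_assoc]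
  congr 2
  ext x
  exact x.2

end Groth.Agent.IntQuot25
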